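import Cfsg.Agent.H884.CxChk

/-!
# S5734: finitely many names with small Landazuri-Seitz bound (task 2833)
-/

set_option autoImplicit false

namespace Cfsg.Agent.H807.Dg

open Cfsg.Agent.OrdDiv Cfsg.Agent.H436 Cfsg.Agent.H927.SgX
open Cfsg.Agent.H884.Cx (excM lb)

/-- the names with parameters at most `M` -/
def names (M : ℕ) : Finset Grp :=
  (Finset.range (M + 1)).image Grp.alt ∪
  ((Finset.range (M + 1) ×ˢ Finset.range (M + 1)).image (fun x => Grp.psl x.1 x.2) ∪
  ((Finset.range (M + 1) ×ˢ Finset.range (M + 1)).image (fun x => Grp.psp x.1 x.2) ∪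
  ((Finset.range (M + 1) ×ˢ Finset.range (M + 1)).image (fun x => Grp.psu x.1 x.2) ∪
  ((Finset.range (M + 1) ×ˢ Finset.range (M + 1)).image (fun x => Grp.oodd x.1 x.2) ∪
  ((Finset.range (M + 1) ×ˢ Finset.range (M + 1)).image (fun x => Grp.oplus x.1 x.2) ∪
  ((Finset.range (M + 1) ×ˢ Finset.range (M + 1)).image (fun x => Grp.ominus x.1 x.2) ∪
  ((Finset.range (M + 1)).image Grp.g2 ∪
  ((Finset.range (M + 1)).image Grp.f4 ∪
  ((Finset.range (M + 1)).image Grp.e6 ∪
  ((Finset.range (M + 1)).image Grp.e7 ∪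
  ((Finset.range (M + 1)).image Grp.e8 ∪
  ((Finset.range (M + 1)).image Grp.te6 ∪
  ((Finset.range (M + 1)).image Grp.td4 ∪
  ((Finset.range (M + 1)).image Grp.sz ∪
  ((Finset.range (M + 1)).image Grp.ree ∪
  ((Finset.range (M + 1)).image Grp.tf4 ∪
  ((spor.map Prod.fst).toFinset ∪ excM.toFinset)))))))))))))))))

variable {M m s : ℕ}

theorem mem_alt (hm : m ≤ M) : Grp.alt m ∈ names M := by
  simp only [names, Finset.mem_union, Finset.mem_image, Finset.mem_range]
  exact .inl ⟨m, by omega, rfl⟩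

theorem mem_psl (hm : m ≤ M) (hs : s ≤ M) : Grp.psl m s ∈ names M := by
  simp only [names, Finset.mem_union, Finset.mem_image, Finset.mem_product, Finset.mem_range]
  exact .inr (.inl ⟨(m, s), ⟨by change m < M + 1; omega, by change s < M + 1; omega⟩, rfl⟩)

theorem mem_psp (hm : m ≤ M) (hs : s ≤ M) : Grp.psp m s ∈ names M := by
  simp only [names, Finset.mem_union, Finset.mem_image, Finset.mem_product, Finset.mem_range]
  exact .inr (.inr (.inl ⟨(m, s), ⟨by change m < M + 1; omega, by change s < M + 1; omega⟩, rfl⟩))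

theorem mem_psu (hm : m ≤ M) (hs : s ≤ M) : Grp.psu m s ∈ names M := by
  simp only [names, Finset.mem_union, Finset.mem_image, Finset.mem_product, Finset.mem_range]
  exact .inr (.inr (.inr (.inl ⟨(m, s), ⟨by change m < M + 1; omega, by change s < M + 1; omega⟩, rfl⟩)))

theorem mem_oodd (hm : m ≤ M) (hs : s ≤ M) : Grp.oodd m s ∈ names M := by
  simp only [names, Finset.mem_union, Finset.mem_image, Finset.mem_product, Finset.mem_range]
  exact .inr (.inr (.inr (.inr (.inl
    ⟨(m, s), ⟨by change m < M + 1; omega, by change s < M + 1; omega⟩, rfl⟩))))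

theorem mem_oplus (hm : m ≤ M) (hs : s ≤ M) : Grp.oplus m s ∈ names M := by
  simp only [names, Finset.mem_union, Finset.mem_image, Finset.mem_product, Finset.mem_range]
  exact .inr (.inr (.inr (.inr (.inr (.inl
    ⟨(m, s), ⟨by change m < M + 1; omega, by change s < M + 1; omega⟩, rfl⟩)))))

theorem mem_ominus (hm : m ≤ M) (hs : s ≤ M) : Grp.ominus m s ∈ names M := by
  simp only [names, Finset.mem_union, Finset.mem_image, Finset.mem_product, Finset.mem_range]
  exact .inr (.inr (.inr (.inr (.inr (.inr (.inl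
    ⟨(m, s), ⟨by change m < M + 1; omega, by change s < M + 1; omega⟩, rfl⟩))))))

theorem mem_g2 (hs : s ≤ M) : Grp.g2 s ∈ names M := by
  simp only [names, Finset.mem_union, Finset.mem_image, Finset.mem_range]
  exact .inr (.inr (.inr (.inr (.inr (.inr (.inr (.inl ⟨s, by omega, rfl⟩)))))))

theorem mem_f4 (hs : s ≤ M) : Grp.f4 s ∈ names M := by
  simp only [names, Finset.mem_union, Finset.mem_image, Finset.mem_range]
  exact .inr (.inr (.inr (.inr (.inr (.inr (.inr (.inr (.inl ⟨s, by omega, rfl⟩))))))))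

theorem mem_e6 (hs : s ≤ M) : Grp.e6 s ∈ names M := by
  simp only [names, Finset.mem_union, Finset.mem_image, Finset.mem_range]
  exact .inr (.inr (.inr (.inr (.inr (.inr (.inr (.inr (.inr (.inl ⟨s, by omega, rfl⟩)))))))))

theorem mem_e7 (hs : s ≤ M) : Grp.e7 s ∈ names M := by
  simp only [names, Finset.mem_union, Finset.mem_image, Finset.mem_range]
  exact .inr (.inr (.inr (.inr (.inr (.inr (.inr (.inr (.inr (.inr (.inl ⟨s, by omega, rfl⟩))))))))))

theorem mem_e8 (hs : s ≤ M) : Grp.e8 s ∈ names M := by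
  simp only [names, Finset.mem_union, Finset.mem_image, Finset.mem_range]
  exact .inr (.inr (.inr (.inr (.inr (.inr (.inr (.inr (.inr (.inr (.inr (.inl ⟨s, by omega, rfl⟩)))))))))))

theorem mem_te6 (hs : s ≤ M) : Grp.te6 s ∈ names M := by
  simp only [names, Finset.mem_union, Finset.mem_image, Finset.mem_range]
  exact .inr (.inr (.inr (.inr (.inr (.inr (.inr (.inr (.inr (.inr (.inr (.inr (.inl ⟨s, by omega, rfl⟩))))))))))))

theorem mem_td4 (hs : s ≤ M) : Grp.td4 s ∈ names M := by
  simp only [names, Finset.mem_union, Finset.mem_image, Finset.mem_range]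
  exact .inr (.inr (.inr (.inr (.inr (.inr (.inr (.inr (.inr (.inr (.inr (.inr (.inr
    (.inl ⟨s, by omega, rfl⟩)))))))))))))

theorem mem_sz (hs : s ≤ M) : Grp.sz s ∈ names M := by
  simp only [names, Finset.mem_union, Finset.mem_image, Finset.mem_range]
  exact .inr (.inr (.inr (.inr (.inr (.inr (.inr (.inr (.inr (.inr (.inr (.inr (.inr (.inr
    (.inl ⟨s, by omega, rfl⟩))))))))))))))

theorem mem_ree (hs : s ≤ M) : Grp.ree s ∈ names M := by
  simp only [names, Finset.mem_union, Finset.mem_image, Finset.mem_range]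
  exact .inr (.inr (.inr (.inr (.inr (.inr (.inr (.inr (.inr (.inr (.inr (.inr (.inr (.inr (.inr
    (.inl ⟨s, by omega, rfl⟩)))))))))))))))

theorem mem_tf4 (hs : s ≤ M) : Grp.tf4 s ∈ names M := by
  simp only [names, Finset.mem_union, Finset.mem_image, Finset.mem_range]
  exact .inr (.inr (.inr (.inr (.inr (.inr (.inr (.inr (.inr (.inr (.inr (.inr (.inr (.inr (.inr (.inr
    (.inl ⟨s, by omega, rfl⟩))))))))))))))))

theorem mem_spor {g : Grp} (hg : ∃ x ∈ spor, x.1 = g) : g ∈ names M := by
  obtain ⟨x, hx, rfl⟩ := hg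
  have h1 : x.1 ∈ (spor.map Prod.fst).toFinset := List.mem_toFinset.2 (List.mem_map_of_mem hx)
  unfold names
  iterate 17 refine Finset.mem_union_right _ ?_
  exact Finset.mem_union_left _ h1

theorem mem_excM {g : Grp} (hg : g ∈ excM) : g ∈ names M := by
  have h1 : g ∈ excM.toFinset := List.mem_toFinset.2 hg
  unfold names
  iterate 18 refine Finset.mem_union_right _ ?_
  exact h1

attribute [irreducible] names

section bounds

theorem pow_bd {s k N : ℕ} (hs : 2 ≤ s) (hk : 1 ≤ k) (h : s ^ k ≤ N) : s ≤ N ∧ k ≤ N := by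
  have h1 : s ≤ s ^ k := Nat.le_self_pow (by omega) s
  have h2 : k < s ^ k := Nat.lt_pow_self (by omega)
  omega

theorem mul_bd {s k N : ℕ} (hs : 2 ≤ s) (hk : 1 ≤ k) (h : (s - 1) * s ^ k ≤ N) : s ≤ N ∧ k ≤ N := by
  refine pow_bd hs hk (le_trans ?_ h)
  exact Nat.le_mul_of_pos_left _ (by omega)

/-- **finitely many names** -/
theorem mem_names {g : Grp} {N : ℕ} (hg : Cond g) (hlie : IsLieN g) (h : lsb g ≤ N) : g ∈ names (2 * N + 10) := by
  cases g with
  | psl m s =>
    have h : (if m = 2 then (s - 1) / 2 else s ^ (m - 1) - 1) ≤ N := h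
    have hs := hg.2.2.two_le
    have hm := hg.1
    split_ifs at h with h2
    · exact mem_psl (by omega) (by omega)
    · obtain ⟨h3, h4⟩ := pow_bd (s := s) (k := m - 1) (N := N + 1) hs (by omega) (by omega)
      exact mem_psl (by omega) (by omega)
  | psp m s =>
    have h : (if s % 2 = 1 then (s ^ m - 1) / 2 else s ^ m - 1) ≤ N := h
    have hs := hg.2.2.two_le
    have hm := hg.1
    have h5 : s ^ m ≤ 2 * N + 2 := by split_ifs at h <;> omega
    obtain ⟨h3, h4⟩ := pow_bd hs (by omega) h5
    exact mem_psp (by omega) (by omega)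
  | psu m s =>
    have h : (s - 1) * s ^ (m - 2) ≤ N := h
    have hs := hg.2.2.two_le
    have hm := hg.1
    obtain ⟨h3, h4⟩ := mul_bd hs (by omega) h
    exact mem_psu (by omega) (by omega)
  | oodd m s =>
    have h : max (s ^ 3 - 1) (s ^ (m - 1) - 1) ≤ N := h
    have hs := hg.2.2.two_le
    have hm := hg.1
    have h5 := (le_max_right _ _).trans h
    obtain ⟨h3, h4⟩ := pow_bd (s := s) (k := m - 1) (N := N + 1) hs (by omega) (by omega)
    exact mem_oodd (by omega) (by omega)
  | oplus m s =>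
    have h : max (s ^ 3 - 1) (s ^ (m - 1) - 1) ≤ N := h
    have hs := hg.2.two_le
    have hm := hg.1
    have h5 := (le_max_right _ _).trans h
    obtain ⟨h3, h4⟩ := pow_bd (s := s) (k := m - 1) (N := N + 1) hs (by omega) (by omega)
    exact mem_oplus (by omega) (by omega)
  | ominus m s =>
    have h : max (s ^ 3 - 1) (s ^ (m - 2) - 1) ≤ N := h
    have hs := hg.2.two_le
    have hm := hg.1
    have h5 := (le_max_right _ _).trans h
    obtain ⟨h3, h4⟩ := pow_bd (s := s) (k := m - 2) (N := N + 1) hs (by omega) (by omega)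
    exact mem_ominus (by omega) (by omega)
  | g2 s =>
    have h : (if s ≤ 4 then 0 else (s - 1) * s) ≤ N := h
    have hs := hg.2.two_le
    split_ifs at h with h2
    · exact mem_g2 (by omega)
    · obtain ⟨h3, h4⟩ := mul_bd (s := s) (k := 1) (N := N) hs le_rfl (by rwa [pow_one])
      exact mem_g2 (by omega)
  | f4 s =>
    have h : (if s = 2 then 0 else (s - 1) * s ^ 3) ≤ N := h
    have hs := IsPrimePow.two_le hg
    split_ifs at h with h2
    · exact mem_f4 (by omega)
    · obtain ⟨h3, h4⟩ := mul_bd hs (by omega) h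
      exact mem_f4 (by omega)
  | e6 s =>
    have hs := IsPrimePow.two_le hg
    obtain ⟨h3, h4⟩ := mul_bd hs (by omega) h
    exact mem_e6 (by omega)
  | e7 s =>
    have hs := IsPrimePow.two_le hg
    obtain ⟨h3, h4⟩ := mul_bd hs (by omega) h
    exact mem_e7 (by omega)
  | e8 s =>
    have hs := IsPrimePow.two_le hg
    obtain ⟨h3, h4⟩ := mul_bd hs (by omega) h
    exact mem_e8 (by omega)
  | te6 s =>
    have h : (if s = 2 then 0 else (s - 1) * s ^ 6) ≤ N := h
    have hs := IsPrimePow.two_le hg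
    split_ifs at h with h2
    · exact mem_te6 (by omega)
    · obtain ⟨h3, h4⟩ := mul_bd hs (by omega) h
      exact mem_te6 (by omega)
  | td4 s =>
    have h : (if s ≤ 3 then 0 else (s - 1) * s ^ 3) ≤ N := h
    have hs := IsPrimePow.two_le hg
    split_ifs at h with h2
    · exact mem_td4 (by omega)
    · obtain ⟨h3, h4⟩ := mul_bd hs (by omega) h
      exact mem_td4 (by omega)
  | sz s =>
    have h : s - 1 ≤ N := h
    exact mem_sz (by omega)
  | ree s =>
    have h : (s - 1) / 2 ≤ N := h
    exact mem_ree (by omega)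
  | tf4 s =>
    have h : (s - 1) * s ≤ N := h
    rcases Nat.lt_or_ge s 2 with h2 | h2
    · exact mem_tf4 (by omega)
    · obtain ⟨h3, h4⟩ := mul_bd (s := s) (k := 1) (N := N) h2 le_rfl (by rwa [pow_one])
      exact mem_tf4 (by omega)
  | _ => exact hlie.elim

end bounds

/-- a bound for the orders of the groups with name in `names (2 N + 10)`, -/
@[irreducible] def bndS (N : ℕ) : ℕ := (names (2 * N + 10)).sup ordN

/-- a bound for the orders of the automorphism groups -/
@[irreducible] def bnd (N : ℕ) : ℕ := bndS N ^ bndS N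

theorem card_mulAut_le (S : Type*) [Group S] [Finite S] {C : ℕ} (h : Nat.card S ≤ C) :
    Nat.card (MulAut S) ≤ C ^ C := by
  have h1 : Nat.card (MulAut S) ≤ Nat.card (S → S) :=
    Nat.card_le_card_of_injective (fun f : MulAut S => (f : S → S)) (fun f g hfg => MulEquiv.ext (congrFun hfg))
  rw [Nat.card_fun] at h1
  have h2 : 0 < Nat.card S := Nat.card_pos
  calc Nat.card (MulAut S) ≤ Nat.card S ^ Nat.card S := h1
    _ ≤ C ^ Nat.card S := Nat.pow_le_pow_left h _
    _ ≤ C ^ C := Nat.pow_le_pow_right (by omega) h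

theorem card_mulAut_le_bnd {g : Grp} {S : Type*} [Group S] [Finite S] (hS : IsNamed g S) {N : ℕ}
    (hg : g ∈ names (2 * N + 10)) : Nat.card (MulAut S) ≤ bnd N := by
  have h1 : bnd N = bndS N ^ bndS N := by unfold bnd; rfl
  have h2 : bndS N = (names (2 * N + 10)).sup ordN := by unfold bndS; rfl
  rw [h1]
  refine card_mulAut_le S ?_
  rw [hS.ord, h2]
  exact Finset.le_sup hg

end Cfsg.Agent.H807.Dg
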