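import Cfsg.Agent.H851.Dg.Big
import Cfsg.Agent.H278.ElCrossIface

/-!
# S5734: large primes, numerics (task 2833)

* `six_big` : six distinct primes `u` with `BigU g u` and `u ≥ N - 11`, `N` the dimension of the classical group `g`;
* `exists_alt` : a prime `u > N + 2` with `BigU g u`.
-/

set_option autoImplicit false

namespace Cfsg.Agent.H807.Dg

open Cfsg.Agent.OrdDiv Cfsg.Agent.H436 Cfsg.Agent.H851.Dg
open Cfsg.Agent.H278.El.SporNum (IsCl prim_le)
open Cfsg.Agent.H278.El.AltNum (dimOf prim_dvd)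
open Cfsg.Agent.H278.El.CrossNum

section ord

variable {q e u : ℕ}

theorem pow_eq_one_iff' (hq : 1 ≤ q) (m : ℕ) : ((q : ℕ) : ZMod u) ^ m = 1 ↔ u ∣ q ^ m - 1 := by
  have h1 : 1 ≤ q ^ m := Nat.one_le_pow _ _ hq
  rw [← ZMod.natCast_eq_zero_iff, Nat.cast_sub h1, Nat.cast_pow, Nat.cast_one, sub_eq_zero]

theorem ord_of_prim (hq : 1 ≤ q) (h : Prim q e u) : orderOf ((q : ℕ) : ZMod u) = e := by
  apply Nat.dvd_antisymm
  · rw [orderOf_dvd_iff_pow_eq_one, pow_eq_one_iff' hq]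
    exact h.dvd dvd_rfl
  · rw [← h.dvd_iff, ← pow_eq_one_iff' hq]
    exact pow_orderOf_eq_one _

theorem ord_neg_of_prim (hq : 1 ≤ q) {j : ℕ} (hj : Odd j) (h : Prim q (2 * j) u) :
    orderOf (-((q : ℕ) : ZMod u)) = j := by
  haveI : Fact u.Prime := ⟨h.prime⟩
  have h0 := ord_of_prim hq h
  have hj0 : 0 < j := hj.pos
  have h1 : ((q : ℕ) : ZMod u) ^ j ≠ 1 := by
    intro hc
    have := orderOf_dvd_of_pow_eq_one hc
    rw [h0] at this
    have := Nat.le_of_dvd hj0 this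
    omega
  have h2 : (((q : ℕ) : ZMod u) ^ j) ^ 2 = 1 := by
    rw [← pow_mul, mul_comm j 2, ← h0]
    exact pow_orderOf_eq_one _
  have h3 : ((q : ℕ) : ZMod u) ^ j = -1 := (sq_eq_one_iff.1 h2).resolve_left h1
  apply Nat.dvd_antisymm
  · rw [orderOf_dvd_iff_pow_eq_one, neg_pow, h3, hj.neg_one_pow]
    norm_num
  · have h4 : ((q : ℕ) : ZMod u) ^ (2 * orderOf (-((q : ℕ) : ZMod u))) = 1 := by
      have h5 := pow_orderOf_eq_one (-((q : ℕ) : ZMod u))
      rw [pow_mul, ← neg_sq, ← pow_mul, mul_comm 2, pow_mul, h5, one_pow]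
    have h5 := orderOf_dvd_of_pow_eq_one h4
    rw [h0] at h5
    exact Nat.dvd_of_mul_dvd_mul_left (by norm_num) h5

end ord

/-- six distinct large primes -/
def SixB (g : Grp) (N : ℕ) : Prop := ∃ t : ℕ → ℕ, (∀ i < 6, ∀ j < 6, t i = t j → i = j) ∧
  (∀ i < 6, BigU g (t i) ∧ (t i).Prime ∧ N - 11 ≤ t i) ∧ ∀ i < 5, N - 9 ≤ t i

theorem sixb_of {g : Grp} {q N : ℕ} (hq : 2 ≤ q) (e : ℕ → ℕ) (he : ∀ i < 6, ∀ j < 6, e i = e j → i = j)
    (h7 : ∀ i < 6, 7 ≤ e i) (hN : ∀ i < 6, N ≤ e i + 12) (hN5 : ∀ i < 5, N ≤ e i + 10)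
    (h : ∀ i < 6, ∀ t, Prim q (e i) t → BigU g t) : SixB g N := by
  have h1 : ∀ i, ∃ t, i < 6 → Prim q (e i) t := fun i => by
    by_cases hi : i < 6
    · obtain ⟨t, ht⟩ := exists_prim hq (show 3 ≤ e i by have := h7 i hi; omega)
        (fun h => by have := h7 i hi; omega)
      exact ⟨t, fun _ => ht⟩
    · exact ⟨0, fun h => absurd h hi⟩
  choose t ht using h1
  refine ⟨t, fun i hi j hj hij => he i hi j hj ?_, fun i hi => ⟨h i hi _ (ht i hi), (ht i hi).prime, ?_⟩,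
    fun i hi => ?_⟩
  · have h2 := ht i hi
    rw [hij] at h2
    exact prim_unique h2 (ht j hj)
  · have := prim_le (ht i hi)
    have := hN i hi
    omega
  · have := prim_le (ht i (by omega))
    have := hN5 i hi
    omega

/-- **Six large primes.** -/
theorem six_big {g : Grp} (hg : Cond g) (hcl : IsCl g) (hN : 37 ≤ dimOf g) : SixB g (dimOf g) := by
  cases g with
  | psl n q =>
    have hN : 37 ≤ n := hN
    have hq : 2 ≤ q := hg.2.2.two_le
    refine sixb_of hq (fun i => n - i) (fun i hi j hj h => by omega)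
      (fun i hi => by omega) (fun i hi => ?_) (fun i hi => ?_) fun i hi t ht => ?_
    · change n ≤ n - i + 12; omega
    · change n ≤ n - i + 10; omega
    · change t.Prime ∧ _ ∧ _
      rw [ord_of_prim (by omega) ht]
      exact ⟨ht.prime, by omega, by omega⟩
  | psp k q =>
    have hN : 37 ≤ 2 * k := hN
    have hq : 2 ≤ q := hg.2.2.two_le
    refine sixb_of hq (fun i => 2 * (k - i)) (fun i hi j hj h => by omega)
      (fun i hi => by omega) (fun i hi => ?_) (fun i hi => ?_) fun i hi t ht => ?_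
    · change 2 * k ≤ 2 * (k - i) + 12; omega
    · change 2 * k ≤ 2 * (k - i) + 10; omega
    · change t.Prime ∧ (_ ∨ _)
      rw [ord_of_prim (by omega) ht]
      exact ⟨ht.prime, .inl ⟨even_two_mul _, by omega, by omega⟩⟩
  | oodd k q =>
    have hN : 37 ≤ 2 * k + 1 := hN
    have hq : 2 ≤ q := hg.2.2.two_le
    refine sixb_of hq (fun i => 2 * (k - i)) (fun i hi j hj h => by omega)
      (fun i hi => by omega) (fun i hi => ?_) (fun i hi => ?_) fun i hi t ht => ?_
    · change 2 * k + 1 ≤ 2 * (k - i) + 12; omega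
    · change 2 * k + 1 ≤ 2 * (k - i) + 10; omega
    · change t.Prime ∧ (_ ∨ _)
      rw [ord_of_prim (by omega) ht]
      exact ⟨ht.prime, .inl ⟨even_two_mul _, by omega, by omega⟩⟩
  | oplus k q =>
    have hN : 37 ≤ 2 * k := hN
    have hq : 2 ≤ q := hg.2.two_le
    refine sixb_of hq (fun i => 2 * (k - 1 - i)) (fun i hi j hj h => by omega)
      (fun i hi => by omega) (fun i hi => ?_) (fun i hi => ?_) fun i hi t ht => ?_
    · change 2 * k ≤ 2 * (k - 1 - i) + 12; omega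
    · change 2 * k ≤ 2 * (k - 1 - i) + 10; omega
    · change t.Prime ∧ (_ ∨ _)
      rw [ord_of_prim (by omega) ht]
      exact ⟨ht.prime, .inl ⟨even_two_mul _, by omega, by omega⟩⟩
  | ominus k q =>
    have hN : 37 ≤ 2 * k := hN
    have hq : 2 ≤ q := hg.2.two_le
    refine sixb_of hq (fun i => 2 * (k - i)) (fun i hi j hj h => by omega)
      (fun i hi => by omega) (fun i hi => ?_) (fun i hi => ?_) fun i hi t ht => ?_
    · change 2 * k ≤ 2 * (k - i) + 12; omega
    · change 2 * k ≤ 2 * (k - i) + 10; omega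
    · change t.Prime ∧ (_ ∨ _)
      rw [ord_of_prim (by omega) ht]
      exact ⟨ht.prime, .inl ⟨even_two_mul _, by omega, by omega⟩⟩
  | psu n q =>
    have hN : 37 ≤ n := hN
    have hq : 2 ≤ q := hg.2.2.two_le
    obtain ⟨k, hk1, hk2, hk3⟩ : ∃ k, k % 2 = 1 ∧ k ≤ n ∧ n ≤ k + 1 := by
      rcases Nat.even_or_odd' n with ⟨j, hj | hj⟩
      · exact ⟨n - 1, by omega, by omega, by omega⟩
      · exact ⟨n, by omega, le_rfl, by omega⟩
    refine sixb_of hq (fun i => 2 * (k - 2 * i)) (fun i hi j hj h => by omega)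
      (fun i hi => by omega) (fun i hi => ?_) (fun i hi => ?_) fun i hi t ht => ?_
    · change n ≤ 2 * (k - 2 * i) + 12; omega
    · change n ≤ 2 * (k - 2 * i) + 10; omega
    · change t.Prime ∧ _ ∧ _
      rw [ord_neg_of_prim (by omega) (Nat.odd_iff.2 (by omega)) ht]
      exact ⟨ht.prime, by omega, by omega⟩
  | _ => exact hcl.elim

theorem SixB.six {g : Grp} {N : ℕ} (h : SixB g N) :
    ∃ c : ℕ, Six N c ∧ ∀ u : ℕ, u.Prime → u ∣ c → BigU g u ∧ N - 11 ≤ u := by
  obtain ⟨t, h1, h2, h3⟩ := h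
  refine ⟨∏ i ∈ Finset.range 6, t i, ⟨t, h1, fun i hi => ⟨(h2 i hi).2.1, Finset.dvd_prod_of_mem _
    (Finset.mem_range.2 hi), (h2 i hi).2.2⟩, h3⟩, fun u hu hd => ?_⟩
  obtain ⟨i, hi, hdi⟩ := (hu.prime.dvd_finsetProd_iff _).1 hd
  have h4 := h2 i (Finset.mem_range.1 hi)
  rw [(Nat.prime_dvd_prime_iff_eq hu h4.2.1).1 hdi]
  exact ⟨h4.1, h4.2.2⟩

/-- a primitive prime is large if `e + 1` is composite -/
theorem two_le_prim {q e u : ℕ} (h : Prim q e u) (he : ¬ (e + 1).Prime) : 2 * e + 1 ≤ u := by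
  have h1 := prim_dvd h
  have h2 := h.prime.two_le
  obtain ⟨k, hk⟩ := h1
  have hk0 : k ≠ 0 := by
    rintro rfl
    omega
  have hk1 : k ≠ 1 := by
    rintro rfl
    apply he
    rw [show e + 1 = u by omega]
    exact h.prime
  have h3 : e * 2 ≤ e * k := Nat.mul_le_mul_left _ (by omega)
  omega

/-- one of three consecutive odd numbers is composite -/
theorem exists_even_exp {M : ℕ} (hM : 10 ≤ M) (he : Even M) : ∃ e, Even e ∧ M ≤ e + 4 ∧ e ≤ M ∧ ¬ (e + 1).Prime := by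
  obtain ⟨k, rfl⟩ := he
  have key : ∀ e, 3 < e + 1 → 3 ∣ e + 1 → ¬ (e + 1).Prime := fun e h1 h2 h3 => by
    rcases (Nat.dvd_prime h3).1 h2 with h | h <;> omega
  have h3 : (k + k) % 3 = 0 ∨ (k + k) % 3 = 1 ∨ (k + k) % 3 = 2 := by omega
  rcases h3 with h | h | h
  · exact ⟨k + k - 4, ⟨k - 2, by omega⟩, by omega, by omega, key _ (by omega) (by omega)⟩
  · exact ⟨k + k - 2, ⟨k - 1, by omega⟩, by omega, by omega, key _ (by omega) (by omega)⟩
  · exact ⟨k + k, ⟨k, rfl⟩, by omega, by omega, key _ (by omega) (by omega)⟩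

/-- **a large prime `> N + 2`** -/
theorem exists_alt {g : Grp} (hg : Cond g) (hcl : IsCl g) (hN : 37 ≤ dimOf g) :
    ∃ u, u.Prime ∧ BigU g u ∧ dimOf g + 2 < u := by
  cases g with
  | psl n q =>
    have hN : 37 ≤ n := hN
    have hq : 2 ≤ q := hg.2.2.two_le
    obtain ⟨e, he1, he2, he3⟩ : ∃ e, n ≤ e + 1 ∧ e ≤ n ∧ ¬ (e + 1).Prime := by
      by_cases h : (n + 1).Prime
      · refine ⟨n - 1, by omega, by omega, fun h2 => ?_⟩
        rw [show n - 1 + 1 = n by omega] at h2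
        rcases h.eq_two_or_odd with h3 | h3 <;> rcases h2.eq_two_or_odd with h4 | h4 <;> omega
      · exact ⟨n, by omega, le_rfl, h⟩
    obtain ⟨t, ht⟩ := exists_prim hq (show 3 ≤ e by omega) (fun h => by omega)
    have h1 := two_le_prim ht he3
    refine ⟨t, ht.prime, ?_, ?_⟩
    · change t.Prime ∧ _ ∧ _
      rw [ord_of_prim (by omega) ht]
      exact ⟨ht.prime, by omega, by omega⟩
    · change n + 2 < t; omega
  | psp k q =>
    have hN : 37 ≤ 2 * k := hN
    have hq : 2 ≤ q := hg.2.2.two_le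
    obtain ⟨e, he0, he1, he2, he3⟩ := exists_even_exp (M := 2 * k) (by omega) (even_two_mul k)
    obtain ⟨t, ht⟩ := exists_prim hq (show 3 ≤ e by omega) (fun h => by omega)
    have h1 := two_le_prim ht he3
    refine ⟨t, ht.prime, ?_, ?_⟩
    · change t.Prime ∧ (_ ∨ _)
      rw [ord_of_prim (by omega) ht]
      exact ⟨ht.prime, .inl ⟨he0, by omega, by omega⟩⟩
    · change 2 * k + 2 < t; omega
  | oodd k q =>
    have hN : 37 ≤ 2 * k + 1 := hN
    have hq : 2 ≤ q := hg.2.2.two_le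
    obtain ⟨e, he0, he1, he2, he3⟩ := exists_even_exp (M := 2 * k) (by omega) (even_two_mul k)
    obtain ⟨t, ht⟩ := exists_prim hq (show 3 ≤ e by omega) (fun h => by omega)
    have h1 := two_le_prim ht he3
    refine ⟨t, ht.prime, ?_, ?_⟩
    · change t.Prime ∧ (_ ∨ _)
      rw [ord_of_prim (by omega) ht]
      exact ⟨ht.prime, .inl ⟨he0, by omega, by omega⟩⟩
    · change 2 * k + 1 + 2 < t; omega
  | oplus k q =>
    have hN : 37 ≤ 2 * k := hN
    have hq : 2 ≤ q := hg.2.two_le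
    obtain ⟨e, he0, he1, he2, he3⟩ := exists_even_exp (M := 2 * (k - 1)) (by omega) (even_two_mul (k - 1))
    obtain ⟨t, ht⟩ := exists_prim hq (show 3 ≤ e by omega) (fun h => by omega)
    have h1 := two_le_prim ht he3
    refine ⟨t, ht.prime, ?_, ?_⟩
    · change t.Prime ∧ (_ ∨ _)
      rw [ord_of_prim (by omega) ht]
      exact ⟨ht.prime, .inl ⟨he0, by omega, by omega⟩⟩
    · change 2 * k + 2 < t; omega
  | ominus k q =>
    have hN : 37 ≤ 2 * k := hN
    have hq : 2 ≤ q := hg.2.two_le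
    obtain ⟨e, he0, he1, he2, he3⟩ := exists_even_exp (M := 2 * k) (by omega) (even_two_mul k)
    obtain ⟨t, ht⟩ := exists_prim hq (show 3 ≤ e by omega) (fun h => by omega)
    have h1 := two_le_prim ht he3
    refine ⟨t, ht.prime, ?_, ?_⟩
    · change t.Prime ∧ (_ ∨ _)
      rw [ord_of_prim (by omega) ht]
      exact ⟨ht.prime, .inl ⟨he0, by omega, by omega⟩⟩
    · change 2 * k + 2 < t; omega
  | psu n q =>
    have hN : 37 ≤ n := hN
    have hq : 2 ≤ q := hg.2.2.two_le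
    obtain ⟨k, hk1, hk2, hk3⟩ : ∃ k, k % 2 = 1 ∧ k ≤ n ∧ n ≤ k + 1 := by
      rcases Nat.even_or_odd' n with ⟨j, hj | hj⟩
      · exact ⟨n - 1, by omega, by omega, by omega⟩
      · exact ⟨n, by omega, le_rfl, by omega⟩
    obtain ⟨t, ht⟩ := exists_prim hq (show 3 ≤ 2 * k by omega) (fun h => by omega)
    have h1 := prim_le ht
    refine ⟨t, ht.prime, ?_, ?_⟩
    · change t.Prime ∧ _ ∧ _
      rw [ord_neg_of_prim (by omega) (Nat.odd_iff.2 (by omega)) ht]
      exact ⟨ht.prime, by omega, by omega⟩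
    · change n + 2 < t; omega
  | _ => exact hcl.elim

end Cfsg.Agent.H807.Dg
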