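import Cfsg.Agent.H884.CxMain
import Cfsg.Agent.H262.ElFewAll
import Cfsg.Agent.H189.FeitTits
import Cfsg.Agent.S2119
import Cfsg.Agent.H807.Dg.Num
import Cfsg.Agent.H807.Dg.Names

/-!
# S5734: residual subgroups, socle not in the defining characteristic (task 2833)

`other` : `T` classical in characteristic `p`, `R ≤ T` almost simple with socle `S`, `S` the quotient of a perfect
`P ≤ GL(ι, F)` by its scalars, `|ι|` the dimension of `T`, `S` not of Lie type in characteristic `p`: `|R|` is bounded in
terms of the dimension, and if the dimension is large then some prime `u` with `BigU gT u` does not divide `|R|`.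
-/

set_option autoImplicit false

namespace Cfsg.Agent.H807.Dg

open Cfsg Cfsg.Agent.OrdDiv Cfsg.Agent.H436 Cfsg.Agent.H264.FKS Cfsg.Agent.H915.GN Cfsg.Agent.H851.Dg
open Cfsg.Agent.H278.El.SporNum (IsCl)
open Cfsg.Agent.H278.El.AltNum (dimOf)
open Cfsg.Agent.H278.El.CrossNum
open Cfsg.Agent.H927.SgX
open Cfsg.Agent.H884.Cx (excM lb lb_le toFin perfect_map exists_quot fs_char fs_eq dvd_of_out')

theorem exists_char_of {q : ℕ} (h : IsPrimePow q) : ∃ s, s.Prime ∧ ∃ f, q = s ^ f := by
  obtain ⟨s, f, hs, -, h⟩ := (isPrimePow_nat_iff q).1 h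
  exact ⟨s, hs, f, h.symm⟩

theorem exists_char {g : Grp} (hg : Cond g) (hlie : IsLieN g) : ∃ s, s.Prime ∧ HasChar s g := by
  cases g with
  | psl n q => exact exists_char_of hg.2.2
  | psp n q => exact exists_char_of hg.2.2
  | psu n q => exact exists_char_of hg.2.2
  | oodd n q => exact exists_char_of hg.2.2
  | oplus n q => exact exists_char_of hg.2
  | ominus n q => exact exists_char_of hg.2
  | g2 q => exact exists_char_of hg.2
  | f4 q => exact exists_char_of hg
  | e6 q => exact exists_char_of hg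
  | e7 q => exact exists_char_of hg
  | e8 q => exact exists_char_of hg
  | te6 q => exact exists_char_of hg
  | td4 q => exact exists_char_of hg
  | sz q => obtain ⟨m, -, h⟩ := hg; exact ⟨2, Nat.prime_two, _, h⟩
  | ree q => obtain ⟨m, -, h⟩ := hg; exact ⟨3, Nat.prime_three, _, h⟩
  | tf4 q => obtain ⟨m, -, h⟩ := hg; exact ⟨2, Nat.prime_two, _, h⟩
  | _ => exact hlie.elim

/-- the three kinds of names -/
theorem name_cases (g : Grp) : (∃ m, g = .alt m) ∨ (∃ x ∈ spor, x.1 = g) ∨ IsLieN g := by
  cases g with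
  | alt m => exact .inl ⟨m, rfl⟩
  | psl n q => exact .inr (.inr trivial)
  | psp n q => exact .inr (.inr trivial)
  | psu n q => exact .inr (.inr trivial)
  | oodd n q => exact .inr (.inr trivial)
  | oplus n q => exact .inr (.inr trivial)
  | ominus n q => exact .inr (.inr trivial)
  | g2 q => exact .inr (.inr trivial)
  | f4 q => exact .inr (.inr trivial)
  | e6 q => exact .inr (.inr trivial)
  | e7 q => exact .inr (.inr trivial)
  | e8 q => exact .inr (.inr trivial)
  | te6 q => exact .inr (.inr trivial)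
  | td4 q => exact .inr (.inr trivial)
  | sz q => exact .inr (.inr trivial)
  | ree q => exact .inr (.inr trivial)
  | tf4 q => exact .inr (.inr trivial)
  | _ => exact .inr (.inl (by simp only [spor, List.mem_cons, exists_eq_or_imp, true_or, or_true, reduceCtorEq,
      false_or]))

/-- the degree of an alternating section of a linear group -/
theorem alt_bound {ι : Type} [Fintype ι] [DecidableEq ι] {F : Type} [Field F] [Finite F] (P : Subgroup (GL ι F))
    (K : Subgroup P) [K.Normal] {m : ℕ} (hm : 9 ≤ m) (e : P ⧸ K ≃* alternatingGroup (Fin m)) :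
    m ≤ Fintype.card ι + 2 := by
  obtain ⟨p, hp⟩ := CharP.exists F
  have h1 := Cfsg.Agent.H189.FeitTits.feit_tits p (V := ι → F) hm (e.toMonoidHom.comp (QuotientGroup.mk' K))
    (e.surjective.comp (QuotientGroup.mk'_surjective K))
    (((Matrix.toLinAlgEquiv' : Matrix ι ι F ≃ₐ[F] _).toAlgHom.toRingHom.toMonoidHom.comp
      (Units.coeHom (Matrix ι ι F))).comp P.subtype) ?_
  · rw [Module.finrank_fintype_fun_eq_card] at h1
    split_ifs at h1 <;> omega
  · intro g hg
    have h2 : g = 1 := Subtype.ext (((Matrix.toLinAlgEquiv' : Matrix ι ι F ≃ₐ[F] _).injective.comp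
      Units.val_injective) (by rw [← map_one ((Matrix.toLinAlgEquiv' : Matrix ι ι F ≃ₐ[F] _))] at hg; exact hg))
    rw [h2, map_one]

/-- **Residual subgroups, socle not in the defining characteristic.** -/
theorem other : ∃ (N0 : ℕ) (B : ℕ → ℕ), ∀ {p : ℕ} {gT g : Grp} {T : Type} [Group T] [Finite T], p.Prime →
    IsNamed gT T → HasChar p gT → IsCl gT → 3 ≤ dimOf gT → ∀ {R : Subgroup T} (S : Subgroup R) [S.Normal],
    IsSimpleGroup S → ¬ IsMulCommutative S →
    Subgroup.centralizer (S : Set R) = ⊥ → IsNamed g S → ¬ HasChar p g →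
    ∀ {ι : Type} [Fintype ι] [DecidableEq ι] {F : Type} [Field F] [Finite F] [CharP F p] {P : Subgroup (GL ι F)},
    ⁅P, P⁆ = P → (S ≃* P ⧸ (Geo.scalars ι F).subgroupOf P) → Fintype.card ι = dimOf gT →
    Nat.card R ≤ B (dimOf gT) ∧ (N0 ≤ dimOf gT → ∃ u, BigU gT u ∧ ¬ u ∣ Nat.card R) := by
  refine ⟨bnd 36 + 40, bnd, ?_⟩
  intro p gT g T _ _ hp hT hchT hcl h3 R S _ hSs hna hC hS hnch ι _ _ F _ _ _ P hP e hcard
  have hRA : Nat.card R ∣ Nat.card (MulAut S) := dvd_aut S hC
  have hRle : ∀ N, g ∈ names (2 * N + 10) → Nat.card R ≤ bnd N := fun N hN =>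
    (Nat.le_of_dvd Nat.card_pos hRA).trans (card_mulAut_le_bnd hS hN)
  have hbdd : g ∈ names (2 * 36 + 10) → bnd 36 + 40 ≤ dimOf gT → ∃ u, BigU gT u ∧ ¬ u ∣ Nat.card R := by
    intro h1 h2
    obtain ⟨t, -, h4, -⟩ := six_big hT.cond hcl (by omega)
    obtain ⟨h5, -, h7⟩ := h4 0 (by norm_num)
    refine ⟨t 0, h5, fun hd => ?_⟩
    have h8 := Nat.le_of_dvd Nat.card_pos hd
    have h9 := hRle 36 h1
    omega
  rcases name_cases g with ⟨m, rfl⟩ | hsp | hlie
  · -- alternating groups
    obtain ⟨e1⟩ := hS.real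
    have hm5 : 5 ≤ m := hS.cond
    have hm : 9 ≤ m → m ≤ dimOf gT + 2 := fun h9 => by
      rw [← hcard]
      exact alt_bound P _ h9 (e.symm.trans e1)
    refine ⟨hRle _ (mem_alt (by omega)), fun hN => ?_⟩
    by_cases h36 : m ≤ 36
    · exact hbdd (mem_alt (by omega)) hN
    · obtain ⟨u, hu, hbu, hlt⟩ := exists_alt hT.cond hcl (by omega)
      refine ⟨u, hbu, fun hd => ?_⟩
      have h1 : u ∣ Nat.card (MulAut (alternatingGroup (Fin m))) := by
        rw [← Nat.card_congr (MulAut.congr e1).toEquiv]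
        exact hd.trans hRA
      have h2 : Nat.card (MulAut (alternatingGroup (Fin m))) = Nat.card (Equiv.Perm (Fin m)) :=
        (Nat.card_congr (Equiv.ofBijective _ (S2119.result m (by omega) (by omega)))).symm
      rw [h2, Nat.card_perm, Nat.card_eq_fintype_card, Fintype.card_fin] at h1
      have h4 := (hu.dvd_factorial).1 h1
      have := hm (by omega)
      omega
  · exact ⟨hRle _ (mem_spor hsp), hbdd (mem_spor hsp)⟩
  · -- Lie type in another characteristic
    obtain ⟨s, hs, hch⟩ := exists_char hS.cond hlie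
    have hsp : s ≠ p := by
      rintro rfl
      exact hnch hch
    by_cases hM : g ∈ excM
    · exact ⟨hRle _ (mem_excM hM), hbdd (mem_excM hM)⟩
    have hna' := not_comm hna
    have hlb : lsb g ≤ dimOf gT := by
      rw [← hcard]
      obtain ⟨e2⟩ := exists_quot (P := P)
      have hex : ∃ x y : S, x * y ≠ y * x := by
        by_contra h
        push Not at h
        exact hna' h
      have h5 := lb_le hS.cond hs hch hex hS.real (F := F) ?_ (P.map (toFin ι F).toMonoidHom) (perfect_map hP)
        (e2.trans e.symm)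
      · unfold lb at h5
        rwa [if_neg hM] at h5
      · intro h0
        have h1 : p ∣ s := (CharP.cast_eq_zero_iff F p s).1 h0
        exact hsp ((Nat.prime_dvd_prime_iff_eq hp hs).1 h1).symm
    refine ⟨hRle _ (mem_names hS.cond hlie hlb), fun hN => ?_⟩
    by_cases h36 : lsb g ≤ 36
    · exact hbdd (mem_names hS.cond hlie h36) hN
    · by_contra hcon
      push Not at hcon
      obtain ⟨c, hc1, hc2⟩ := (six_big hT.cond hcl (by omega)).six
      obtain ⟨f, hf⟩ := fs_char hch
      refine not_few hc1 hlb (fun u hu hd => ?_)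
        (Cfsg.Agent.H262.Few.few hS.cond hlie hS.eq hs ((fs_eq g).symm.trans hf) (by omega))
      obtain ⟨h4, h5⟩ := hc2 u hu hd
      have h6 := (hcon u h4).trans hRA
      rw [← H934.OutB.card_out_mul S hna] at h6
      rcases hu.dvd_mul.1 h6 with h7 | h7
      · rcases dvd_of_out' hna' hs hS hch hu (by omega) h7 with h8 | h8
        · exact h8.mul_left _
        · exact ((h8 f hf).mul_left 6).mul_right _
      · exact h7.mul_left _

end Cfsg.Agent.H807.Dg
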