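import Cfsg.Agent.H807.Dg.Other
import Cfsg.Agent.H851.Dg.NumT

/-!
# S5734: `other` in the form of helper851
-/

set_option autoImplicit false

namespace Cfsg.Agent.H807.Dg

open Cfsg Cfsg.Geo Cfsg.Agent.OrdDiv Cfsg.Agent.H436 Cfsg.Agent.H915.GN Cfsg.Agent.H851.Dg
open Cfsg.Agent.H278.El.SporNum (IsCl)
open Cfsg.Agent.H278.El.AltNum (dimOf)

theorem isCl_of_bigCl {g : Grp} (h : BigCl g) : IsCl g ∧ 3 ≤ dimOf g := by
  cases g with
  | psl n q => exact ⟨show 3 ≤ n from (by have : 4 ≤ n := h; omega), show 3 ≤ n from (by have : 4 ≤ n := h; omega)⟩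
  | psu n q => exact ⟨trivial, show 3 ≤ n from (by have : 4 ≤ n := h; omega)⟩
  | psp m q => exact ⟨trivial, show 3 ≤ 2 * m from (by have : 3 ≤ m := h; omega)⟩
  | oodd m q => exact ⟨trivial, show 3 ≤ 2 * m + 1 from (by have : 3 ≤ m := h; omega)⟩
  | oplus m q => exact ⟨trivial, show 3 ≤ 2 * m from (by have : 4 ≤ m := h; omega)⟩
  | ominus m q => exact ⟨trivial, show 3 ≤ 2 * m from (by have : 4 ≤ m := h; omega)⟩
  | _ => exact h.elim

/-- **residual subgroups with socle not in the defining characteristic**, form of helper851 -/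
theorem other_row : ∃ (N0 : ℕ) (B : ℕ → ℕ), ∀ (p : ℕ) (gT g : Grp) (T : Type) [Group T] [Finite T], p.Prime →
    IsNamed gT T → BigCl gT → HasChar p gT → ∀ (R : Subgroup T) (S : Subgroup R) [S.Normal], R ≠ ⊤ →
    IsSimpleGroup S → ¬ IsMulCommutative S → Subgroup.centralizer (S : Set R) = ⊥ → IsNamed g S → ¬ HasChar p g →
    ∀ (ι : Type) [Fintype ι] [DecidableEq ι] (F : Type) [Field F] [Finite F] [CharP F p] (H P : Subgroup (GL ι F)),
    IsResidualCore H P → Nonempty (S ≃* P ⧸ (scalars ι F).subgroupOf P) → Fintype.card ι = dimOf gT →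
    Nat.card R ≤ B (dimOf gT) ∧ (N0 ≤ dimOf gT → ∃ u, BigU gT u ∧ ¬ u ∣ Nat.card R) := by
  obtain ⟨N0, B, h⟩ := other
  refine ⟨N0, B, ?_⟩
  intro p gT g T _ _ hp hT hcl hch R S _ _ hSs hna hC hS hnch ι _ _ F _ _ _ H P hP e hcard
  obtain ⟨e⟩ := e
  exact h hp hT hch (isCl_of_bigCl hcl).1 (isCl_of_bigCl hcl).2 S hSs hna hC hS hnch hP.perfect e hcard

end Cfsg.Agent.H807.Dg
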